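import Groth.Agent.FlatLib.GenericFree
import Mathlib

/-! # Generic flatness of `N ⧸ W` for a finite module `N` over `B` and a finite `A`-submodule `W` -/

set_option autoImplicit false
universe u

open TensorProduct

namespace GenFlatCokerLib

section General

variable {R : Type u} [CommRing R]

theorem flat_of_extension {A B C : Type u} [AddCommGroup A] [Module R A] [AddCommGroup B] [Module R B]
    [AddCommGroup C] [Module R C] (i : A →ₗ[R] B) (p : B →ₗ[R] C) (hi : Function.Injective i)
    (hex : Function.Exact i p) (hp : Function.Surjective p) [Module.Flat R A] [Module.Flat R C] :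
    Module.Flat R B := by
  rw [Module.Flat.iff_rTensor_injective']
  intro I
  rw [injective_iff_map_eq_zero]
  intro z hz
  have hC := Module.Flat.rTensor_preserves_injective_linearMap (M := C) I.subtype Subtype.val_injective
  have hA := Module.Flat.rTensor_preserves_injective_linearMap (M := A) I.subtype Subtype.val_injective
  have hnat : ∀ {X Y : Type u} [AddCommGroup X] [Module R X] [AddCommGroup Y] [Module R Y] (g : X →ₗ[R] Y)
      (x : I ⊗[R] X), I.subtype.rTensor Y (g.lTensor I x) = g.lTensor R (I.subtype.rTensor X x) := by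
    intro X Y _ _ _ _ g x
    rw [← LinearMap.comp_apply, LinearMap.rTensor_comp_lTensor, ← LinearMap.lTensor_comp_rTensor,
      LinearMap.comp_apply]
  have h1 : p.lTensor I z = 0 := hC (by rw [hnat, hz, map_zero, map_zero])
  obtain ⟨y, rfl⟩ := (lTensor_exact I hex hp z).1 h1
  have h2 : I.subtype.rTensor A y = 0 := by
    rw [hnat] at hz
    exact Module.Flat.lTensor_preserves_injective_linearMap i hi (hz.trans (map_zero _).symm)
  rw [hA (h2.trans (map_zero _).symm), map_zero]

theorem flat_of_union {M : Type u} [AddCommGroup M] [Module R M] {F : ℕ → Type u}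
    [∀ j, AddCommGroup (F j)] [∀ j, Module R (F j)] (ι : ∀ j, F j →ₗ[R] M)
    (hι : ∀ j, Function.Injective (ι j)) (hmono : ∀ j, LinearMap.range (ι j) ≤ LinearMap.range (ι (j + 1)))
    (hcov : ∀ m, ∃ j, m ∈ LinearMap.range (ι j)) (hflat : ∀ j, Module.Flat R (F j)) :
    Module.Flat R M := by
  have hmono' : Monotone fun j => LinearMap.range (ι j) := monotone_nat_of_le_succ hmono
  rw [Module.Flat.iff_rTensor_injective']
  intro I
  rw [injective_iff_map_eq_zero]
  intro z hz
  have hall : ∀ z : I ⊗[R] M, ∃ j, ∀ k, j ≤ k → z ∈ LinearMap.range ((ι k).lTensor I) := fun z => by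
    induction z with
    | zero => exact ⟨0, fun k _ => zero_mem _⟩
    | tmul a m =>
      obtain ⟨j, hj⟩ := hcov m
      refine ⟨j, fun k hk => ?_⟩
      obtain ⟨x, rfl⟩ := hmono' hk hj
      exact ⟨a ⊗ₜ x, rfl⟩
    | add x y hx hy =>
      obtain ⟨j, hj⟩ := hx
      obtain ⟨j', hj'⟩ := hy
      exact ⟨max j j', fun k hk => add_mem (hj k (le_of_max_le_left hk)) (hj' k (le_of_max_le_right hk))⟩
  obtain ⟨j, hj⟩ := hall z
  obtain ⟨y, rfl⟩ := hj j le_rfl
  haveI := hflat j
  have h2 : I.subtype.rTensor (F j) y = 0 := by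
    refine Module.Flat.lTensor_preserves_injective_linearMap (M := R) (ι j) (hι j) ?_
    rw [map_zero, ← LinearMap.comp_apply, LinearMap.lTensor_comp_rTensor, ← LinearMap.rTensor_comp_lTensor,
      LinearMap.comp_apply]
    exact hz
  rw [Module.Flat.rTensor_preserves_injective_linearMap (M := F j) I.subtype Subtype.val_injective
    (h2.trans (map_zero _).symm), map_zero]

/-- `M` is flat after inverting `f`. -/
def FlatAway (f : R) (M : Type u) [AddCommGroup M] [Module R M] : Prop :=
  Module.Flat (Localization.Away f) (Localization.Away f ⊗[R] M)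

theorem FlatAway.mul_right {f : R} (g : R) {M : Type u} [AddCommGroup M] [Module R M] (h : FlatAway f M) :
    FlatAway (f * g) M := by
  let L := Localization.Away (f * g)
  have hu : IsUnit (algebraMap R L f) := by
    have h : IsUnit (algebraMap R L f * algebraMap R L g) := by
      rw [← map_mul]; exact IsLocalization.Away.algebraMap_isUnit _
    exact (IsUnit.mul_iff.1 h).1
  letI : Algebra (Localization.Away f) L := (IsLocalization.Away.lift f hu).toAlgebra
  haveI : IsScalarTower R (Localization.Away f) L := IsScalarTower.of_algebraMap_eq fun r ↦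
    (IsLocalization.Away.lift_eq f hu r).symm
  haveI : Module.Flat (Localization.Away f) (Localization.Away f ⊗[R] M) := h
  exact Module.Flat.of_linearEquiv (AlgebraTensorModule.cancelBaseChange R (Localization.Away f) L L M).symm

theorem FlatAway.mul_left {f : R} (g : R) {M : Type u} [AddCommGroup M] [Module R M] (h : FlatAway f M) :
    FlatAway (g * f) M := mul_comm f g ▸ h.mul_right g

theorem FlatAway.of_equiv {f : R} {M N : Type u} [AddCommGroup M] [Module R M] [AddCommGroup N] [Module R N]
    (h : FlatAway f M) (e : M ≃ₗ[R] N) : FlatAway f N :=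
  haveI : Module.Flat (Localization.Away f) (Localization.Away f ⊗[R] M) := h
  Module.Flat.of_linearEquiv (AlgebraTensorModule.congr (LinearEquiv.refl _ _) e.symm)

theorem FlatAway.extension {f : R} {A B C : Type u} [AddCommGroup A] [Module R A] [AddCommGroup B] [Module R B]
    [AddCommGroup C] [Module R C] (i : A →ₗ[R] B) (p : B →ₗ[R] C) (hi : Function.Injective i)
    (hex : Function.Exact i p) (hp : Function.Surjective p) (hA : FlatAway f A) (hC : FlatAway f C) :
    FlatAway f B :=
  haveI : Module.Flat (Localization.Away f) (Localization.Away f ⊗[R] A) := hA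
  haveI : Module.Flat (Localization.Away f) (Localization.Away f ⊗[R] C) := hC
  haveI : Module.Flat R (Localization.Away f) := IsLocalization.flat _ (Submonoid.powers f)
  flat_of_extension (i.baseChange (Localization.Away f)) (p.baseChange (Localization.Away f))
    (Module.Flat.lTensor_preserves_injective_linearMap i hi) (lTensor_exact _ hex hp)
    (LinearMap.lTensor_surjective _ hp)

theorem exists_flatAway_gfree {M : Type u} [AddCommGroup M] [Module R M] (h : FlatLib.GFree R M) :
    ∃ f : R, f ≠ 0 ∧ FlatAway f M := by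
  obtain ⟨f, hf, h⟩ := h
  exact ⟨f, hf, Module.Flat.of_free⟩

theorem FlatAway.of_union {f : R} {M : Type u} [AddCommGroup M] [Module R M] (F : ℕ → Submodule R M)
    (hmono : Monotone F) (hcov : ∀ m, ∃ j, m ∈ F j) (hflat : ∀ j, FlatAway f (F j)) : FlatAway f M := by
  haveI : Module.Flat R (Localization.Away f) := IsLocalization.flat _ (Submonoid.powers f)
  refine flat_of_union (F := fun j => Localization.Away f ⊗[R] F j)
    (fun j => (F j).subtype.baseChange (Localization.Away f))
    (fun j => Module.Flat.lTensor_preserves_injective_linearMap _ Subtype.val_injective) (fun j => ?_)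
    (fun z => ?_) hflat
  · rintro _ ⟨x, rfl⟩
    refine ⟨(Submodule.inclusion (hmono j.le_succ)).baseChange (Localization.Away f) x, ?_⟩
    rw [← LinearMap.comp_apply, ← LinearMap.baseChange_comp, Submodule.subtype_comp_inclusion]
  · suffices ∃ j, ∀ k, j ≤ k → z ∈ LinearMap.range ((F k).subtype.baseChange (Localization.Away f)) by
      obtain ⟨j, hj⟩ := this
      exact ⟨j, hj j le_rfl⟩
    induction z with
    | zero => exact ⟨0, fun k _ => zero_mem _⟩
    | tmul a m =>
      obtain ⟨j, hj⟩ := hcov m
      exact ⟨j, fun k hk => ⟨a ⊗ₜ ⟨m, hmono hk hj⟩, rfl⟩⟩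
    | add x y hx hy =>
      obtain ⟨j, hj⟩ := hx
      obtain ⟨j', hj'⟩ := hy
      exact ⟨max j j', fun k hk => add_mem (hj k (le_of_max_le_left hk)) (hj' k (le_of_max_le_right hk))⟩

end General

section Sub

variable {R A : Type u} [CommRing R] [CommRing A] [Algebra R A] {N : Type u} [AddCommGroup N] [Module A N]
  [Module R N] [IsScalarTower R A N]

set_option maxHeartbeats 1600000 in
theorem FlatAway.of_sub {f : R} {P Q : Submodule A N} (hle : P ≤ Q) (hP : FlatAway f P)
    (hC : FlatAway f (Q ⧸ P.comap Q.subtype)) : FlatAway f Q :=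
  FlatAway.extension ((Submodule.inclusion hle).restrictScalars R)
    ((P.comap Q.subtype).mkQ.restrictScalars R) (Submodule.inclusion_injective hle) (fun z => by
      refine (Submodule.Quotient.mk_eq_zero _).trans ⟨fun h => ⟨⟨z.1, h⟩, rfl⟩, ?_⟩
      rintro ⟨y, rfl⟩
      exact y.2) (Submodule.mkQ_surjective _) hP hC

theorem FlatAway.of_quot {f : R} {W V : Submodule A N} (hle : W ≤ V) (hV : FlatAway f (V.map W.mkQ))
    (hQ : FlatAway f (N ⧸ V)) : FlatAway f (N ⧸ W) := by
  refine FlatAway.extension ((V.map W.mkQ).subtype.restrictScalars R)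
    ((Submodule.mapQ W V LinearMap.id hle).restrictScalars R)
    Subtype.val_injective (fun z => ?_) (fun z => ?_) hV hQ
  · obtain ⟨x, rfl⟩ := Submodule.mkQ_surjective W z
    refine (Submodule.Quotient.mk_eq_zero _).trans ⟨fun h => ⟨⟨_, x, h, rfl⟩, rfl⟩, ?_⟩
    rintro ⟨⟨_, y, hy, rfl⟩, h⟩
    have : x - y ∈ W := (Submodule.Quotient.eq W).1 h.symm
    simpa using add_mem (hle this) hy
  · obtain ⟨x, rfl⟩ := Submodule.mkQ_surjective _ z
    exact ⟨W.mkQ x, rfl⟩

theorem FlatAway.of_union_sub {f : R} (X : ℕ → Submodule A N) (hX : Monotone X) (Y : Submodule A N)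
    (hle : ∀ j, X j ≤ Y) (hcov : ∀ y ∈ Y, ∃ j, y ∈ X j) (h : ∀ j, FlatAway f (X j)) : FlatAway f Y :=
  FlatAway.of_union (fun j => ((X j).comap Y.subtype).restrictScalars R) (fun i j h z hz => hX h hz)
    (fun z => hcov z.1 z.2) fun j => (h j).of_equiv ((Submodule.comapSubtypeEquivOfLe (hle j)).symm.restrictScalars R)

theorem FlatAway.of_subsingleton {f : R} (P : Submodule A N) (hP : P = ⊥) : FlatAway f P := by
  subst hP
  haveI : Subsingleton (Localization.Away f ⊗[R] (⊥ : Submodule A N)) := inferInstance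
  show Module.Flat _ _
  infer_instance

end Sub

variable {R : Type u} [CommRing R] [IsDomain R] [IsNoetherianRing R]

set_option maxHeartbeats 1600000 in
theorem one_variable {A B : Type u} [CommRing A] [CommRing B] [Algebra R A] [Algebra A B] [Algebra R B]
    [IsScalarTower R A B] [Algebra.FiniteType R A] (b : B) (hb : Algebra.adjoin A {b} = ⊤)
    {N : Type u} [AddCommGroup N] [Module B N] [Module A N] [Module R N] [IsScalarTower A B N]
    [IsScalarTower R A N] [IsScalarTower R B N] [Module.Finite B N] (W : Submodule A N) (hW : W.FG) :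
    ∃ f : R, f ≠ 0 ∧ FlatAway f (N ⧸ W) := by
  haveI : IsNoetherianRing A := Algebra.FiniteType.isNoetherianRing R A
  haveI : Algebra.FiniteType A B := ⟨⟨{b}, by simpa using hb⟩⟩
  haveI : Algebra.FiniteType R B := Algebra.FiniteType.trans (S := A) inferInstance inferInstance
  haveI : Module.Finite A W := Module.Finite.of_fg hW
  haveI : IsNoetherian A W := isNoetherian_of_isNoetherianRing_of_finite A W
  let β : N →ₗ[A] N := LinearMap.lsmul B N b |>.restrictScalars A
  let Wj : ℕ → Submodule A N := fun j => Nat.rec W (fun _ V => W ⊔ V.map β) j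
  have hW0 : Wj 0 = W := rfl
  have hWs : ∀ j, Wj (j + 1) = W ⊔ (Wj j).map β := fun j => rfl
  have hmono : Monotone Wj := monotone_nat_of_le_succ fun j => by
    induction j with
    | zero => rw [hWs]; exact le_sup_left
    | succ k ih =>
      rw [hWs k, hWs (k + 1)]
      exact sup_le_sup_left (Submodule.map_mono ih) _
  have hWle : ∀ j, W ≤ Wj j := fun j => hmono (Nat.zero_le j)
  have hβmem : ∀ {j x}, x ∈ Wj j → b • x ∈ Wj (j + 1) := fun {j x} hx =>
    (le_sup_right : (Wj j).map β ≤ _) ⟨x, hx, rfl⟩
  have hpow : ∀ (j : ℕ) (w : N), w ∈ W → b ^ j • w ∈ Wj j := fun j w hw => by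
    induction j with
    | zero => simpa [hW0] using hw
    | succ k ih => rw [pow_succ', mul_smul]; exact hβmem ih
  have hdec : ∀ (j : ℕ) (x : N), x ∈ Wj (j + 1) → ∃ w ∈ W, x - b ^ (j + 1) • w ∈ Wj j := fun j => by
    induction j with
    | zero =>
      intro x hx
      rw [hWs, hW0, Submodule.mem_sup] at hx
      obtain ⟨v, hv, _, ⟨w, hw, rfl⟩, rfl⟩ := hx
      exact ⟨w, hw, by rw [hW0]; simpa [β] using hv⟩
    | succ k ih =>
      intro x hx
      rw [hWs (k + 1), Submodule.mem_sup] at hx
      obtain ⟨v, hv, _, ⟨y, hy, rfl⟩, rfl⟩ := hx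
      obtain ⟨w, hw, hyw⟩ := ih y hy
      refine ⟨w, hw, ?_⟩
      have h1 : v + β y - b ^ (k + 1 + 1) • w = v + b • (y - b ^ (k + 1) • w) := by
        show v + b • y - _ = _
        rw [smul_sub, smul_smul, ← pow_succ']; abel
      rw [h1]
      exact add_mem (hWle (k + 1) hv) (hβmem hyw)
  -- the `B`-submodule generated by `W`
  let Winf : Submodule B N :=
    { carrier := {x | ∃ j, x ∈ Wj j}
      zero_mem' := ⟨0, zero_mem _⟩
      add_mem' := fun {x y} ⟨j, hx⟩ ⟨k, hy⟩ =>
        ⟨max j k, add_mem (hmono (le_max_left j k) hx) (hmono (le_max_right j k) hy)⟩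
      smul_mem' := fun c x hx => by
        have hc : c ∈ Algebra.adjoin A {b} := by rw [hb]; trivial
        induction hc using Algebra.adjoin_induction generalizing x with
        | mem c hc =>
          obtain ⟨j, hx⟩ := hx
          rw [Set.mem_singleton_iff.1 hc]
          exact ⟨j + 1, hβmem hx⟩
        | algebraMap r =>
          obtain ⟨j, hx⟩ := hx
          exact ⟨j, by rw [algebraMap_smul]; exact Submodule.smul_mem _ r hx⟩
        | add c d _ _ hc hd =>
          obtain ⟨j, hj⟩ := hc x hx
          obtain ⟨k, hk⟩ := hd x hx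
          exact ⟨max j k, by rw [add_smul]; exact add_mem (hmono (le_max_left j k) hj) (hmono (le_max_right j k) hk)⟩
        | mul c d _ _ hc hd => rw [mul_smul]; exact hc _ (hd x hx) }
  let q : N →ₗ[A] N ⧸ W := W.mkQ
  let X : ℕ → Submodule A (N ⧸ W) := fun j => (Wj j).map q
  have hXmono : Monotone X := fun i j h => Submodule.map_mono (hmono h)
  have hqmem : ∀ {j x}, q x ∈ X j → x ∈ Wj j := fun {j x} ⟨y, hy, hyx⟩ => by
    have : x - y ∈ W := (Submodule.Quotient.eq W).1 hyx.symm
    simpa using add_mem (hWle j this) hy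
  let C : ℕ → Type u := fun j => X (j + 1) ⧸ (X j).comap (X (j + 1)).subtype
  let ψ : ∀ j, W →ₗ[A] C j := fun j => (Submodule.mkQ _).comp
    (LinearMap.codRestrict (X (j + 1)) (q ∘ₗ ((LinearMap.lsmul B N (b ^ (j + 1))).restrictScalars A) ∘ₗ W.subtype)
      fun w => ⟨b ^ (j + 1) • (w : N), hpow (j + 1) _ w.2, rfl⟩)
  have hψ : ∀ j, Function.Surjective (ψ j) := fun j z => by
    obtain ⟨⟨_, x, hx, rfl⟩, rfl⟩ := Submodule.mkQ_surjective _ z
    obtain ⟨w, hw, hxw⟩ := hdec j x hx
    refine ⟨⟨w, hw⟩, (Submodule.Quotient.eq _).2 ?_⟩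
    refine ⟨b ^ (j + 1) • w - x, by simpa using neg_mem hxw, ?_⟩
    exact (map_sub q _ _)
  let K : ℕ →o Submodule A W := ⟨fun j => LinearMap.ker (ψ j), monotone_nat_of_le_succ fun j w hw => by
    have h1 : q (b ^ (j + 1) • (w : N)) ∈ X j :=
      (Submodule.Quotient.mk_eq_zero ((X j).comap (X (j + 1)).subtype)).1 (LinearMap.mem_ker.1 hw)
    refine (Submodule.Quotient.mk_eq_zero _).2 ⟨_, hβmem (hqmem h1), ?_⟩
    show q _ = q (b ^ (j + 1 + 1) • (w : N))
    rw [pow_succ' b (j + 1), mul_smul]⟩
  obtain ⟨J, hJ⟩ := monotone_stabilizes_iff_noetherian.2 (inferInstance : IsNoetherian A W) K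
  choose g hg hgflat using fun j : ℕ => exists_flatAway_gfree (FlatLib.gfree_of_finite (R := R) A (W ⧸ K j))
  obtain ⟨f₀, hf₀, hQ⟩ := exists_flatAway_gfree (FlatLib.gfree_of_finite (R := R) B (N ⧸ Winf))
  let G := ∏ j ∈ Finset.range (J + 1), g j
  have hG : G ≠ 0 := Finset.prod_ne_zero_iff.2 fun j _ => hg j
  refine ⟨f₀ * G, mul_ne_zero hf₀ hG, ?_⟩
  have hC : ∀ j, FlatAway (f₀ * G) (C j) := fun j => by
    obtain ⟨i, hi, hKi⟩ : ∃ i ∈ Finset.range (J + 1), K j = K i := by
      rcases le_total j J with h | h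
      · exact ⟨j, Finset.mem_range.2 (Nat.lt_succ_of_le h), rfl⟩
      · exact ⟨J, Finset.self_mem_range_succ J, (hJ j h).symm⟩
    have h1 : FlatAway (f₀ * G) (W ⧸ K i) := by
      rw [show G = g i * ∏ k ∈ (Finset.range (J + 1)).erase i, g k from (Finset.mul_prod_erase _ g hi).symm]
      exact ((hgflat i).mul_right _).mul_left _
    exact h1.of_equiv ((Submodule.quotEquivOfEq (K i) (LinearMap.ker (ψ j)) hKi.symm).trans
      ((ψ j).quotKerEquivOfSurjective (hψ j)) |>.restrictScalars R)
  have hX : ∀ j, FlatAway (f₀ * G) (X j) := fun j => by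
    induction j with
    | zero =>
      refine FlatAway.of_subsingleton _ ((Submodule.eq_bot_iff _).2 ?_)
      rintro _ ⟨y, hy, rfl⟩
      exact (Submodule.Quotient.mk_eq_zero W).2 hy
    | succ k ih => exact FlatAway.of_sub (hXmono k.le_succ) ih (hC k)
  refine FlatAway.of_quot (V := Winf.restrictScalars A) (fun x hx => ⟨0, hx⟩)
    (FlatAway.of_union_sub X hXmono _ (fun j => Submodule.map_mono fun x hx => ⟨j, hx⟩) ?_ hX)
    ((hQ.mul_right G).of_equiv ((Submodule.Quotient.restrictScalarsEquiv A Winf).symm.restrictScalars R))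
  rintro _ ⟨y, ⟨j, hy⟩, rfl⟩
  exact ⟨j, y, hy, rfl⟩

theorem finset_generators : ∀ (n : ℕ) (A B : Type u) [CommRing A] [CommRing B] [Algebra R A] [Algebra A B]
    [Algebra R B] [IsScalarTower R A B] [Algebra.FiniteType R A] (s : Fin n → B)
    (_ : Algebra.adjoin A (Set.range s) = ⊤) (N : Type u) [AddCommGroup N] [Module B N] [Module A N]
    [Module R N] [IsScalarTower A B N] [IsScalarTower R A N] [IsScalarTower R B N] [Module.Finite B N]
    (W : Submodule A N), W.FG → ∃ f : R, f ≠ 0 ∧ FlatAway f (N ⧸ W) := by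
  intro n
  induction n with
  | zero =>
    intro A B _ _ _ _ _ _ _ s hs N _ _ _ _ _ _ _ _ W _
    have hsurj : Function.Surjective (algebraMap A B) := fun y => by
      have hy : y ∈ Algebra.adjoin A (Set.range s) := by rw [hs]; trivial
      rw [Set.range_eq_empty, Algebra.adjoin_empty] at hy
      exact hy
    haveI : Module.Finite A B := Module.Finite.of_surjective (Algebra.linearMap A B) hsurj
    haveI : Module.Finite A N := Module.Finite.trans B N
    exact exists_flatAway_gfree (FlatLib.gfree_of_finite (R := R) A (N ⧸ W))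
  | succ m ih =>
    intro A B _ _ _ _ _ _ _ s hs N _ _ _ _ _ _ _ _ W hW
    let A' := Algebra.adjoin A (Set.range (Fin.tail s))
    haveI hA'A : Algebra.FiniteType A A' := ⟨Subalgebra.fg_top A' |>.2
      ⟨(Set.finite_range (Fin.tail s)).toFinset, by simp [A']⟩⟩
    haveI : Algebra.FiniteType R A' := Algebra.FiniteType.trans (S := A) inferInstance hA'A
    haveI : IsScalarTower R A' B := IsScalarTower.of_algebraMap_eq fun r => by
      rw [IsScalarTower.algebraMap_apply R A A', ← IsScalarTower.algebraMap_apply A A' B,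
        ← IsScalarTower.algebraMap_apply R A B]
    haveI : IsScalarTower R A' N := ⟨fun r x n => by
      show ((r • x : A') : B) • n = r • ((x : B) • n)
      rw [show ((r • x : A') : B) = r • (x : B) from rfl, smul_assoc]⟩
    have hgen : Algebra.adjoin A' ({s 0} : Set B) = ⊤ := by
      rw [eq_top_iff]
      rintro y -
      have hy : y ∈ Algebra.adjoin A (Set.range s) := by rw [hs]; trivial
      induction hy using Algebra.adjoin_induction with
      | mem y hy =>
        obtain ⟨i, rfl⟩ := hy
        refine Fin.cases ?_ (fun j => ?_) i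
        · exact Algebra.subset_adjoin rfl
        · exact (Algebra.adjoin A' _).algebraMap_mem ⟨_, Algebra.subset_adjoin ⟨j, rfl⟩⟩
      | algebraMap r => exact (Algebra.adjoin A' _).algebraMap_mem (algebraMap A A' r)
      | add x y _ _ hx hy => exact add_mem hx hy
      | mul x y _ _ hx hy => exact mul_mem hx hy
    let W' : Submodule A' N := Submodule.span A' (W : Set N)
    have hW' : W'.FG := by
      obtain ⟨t, rfl⟩ := hW
      exact ⟨t, (Submodule.span_span_of_tower A A' (t : Set N)).symm⟩
    obtain ⟨f₁, hf₁, h₁⟩ := one_variable (R := R) (A := A') (B := B) (s 0) hgen (N := N) W' hW'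
    haveI : Module.Finite A' W' := Module.Finite.of_fg hW'
    let V : Submodule A W' := W.comap (W'.subtype.restrictScalars A)
    have hle : W ≤ W'.restrictScalars A := Submodule.subset_span
    have hV : V.FG := by
      haveI : Module.Finite A W := Module.Finite.of_fg hW
      exact Module.Finite.iff_fg.1 (Module.Finite.equiv (Submodule.comapSubtypeEquivOfLe hle).symm)
    obtain ⟨f₂, hf₂, h₂⟩ := ih A A' (fun i => ⟨Fin.tail s i, Algebra.subset_adjoin ⟨i, rfl⟩⟩)
      (by
        rw [eq_top_iff]
        rintro ⟨y, hy⟩ -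
        induction hy using Algebra.adjoin_induction with
        | mem y hy =>
          obtain ⟨i, rfl⟩ := hy
          exact Algebra.subset_adjoin ⟨i, rfl⟩
        | algebraMap r => exact Subalgebra.algebraMap_mem _ r
        | add x y _ _ hx hy => exact add_mem hx hy
        | mul x y _ _ hx hy => exact mul_mem hx hy)
      W' V hV
    refine ⟨f₁ * f₂, mul_ne_zero hf₁ hf₂, FlatAway.extension
      ((Submodule.mapQ V W (W'.subtype.restrictScalars A) le_rfl).restrictScalars R)
      ((Submodule.mapQ W (W'.restrictScalars A) LinearMap.id hle).restrictScalars R) ?_ ?_ ?_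
      (h₂.mul_left f₁)
      ((h₁.mul_right f₂).of_equiv ((Submodule.Quotient.restrictScalarsEquiv A W').symm.restrictScalars R))⟩
    · rw [LinearMap.coe_restrictScalars, ← LinearMap.ker_eq_bot, eq_bot_iff]
      intro z hz
      obtain ⟨x, rfl⟩ := Submodule.mkQ_surjective V z
      exact (Submodule.Quotient.mk_eq_zero V).2 ((Submodule.Quotient.mk_eq_zero W).1 hz)
    · intro z
      obtain ⟨x, rfl⟩ := Submodule.mkQ_surjective W z
      refine (Submodule.Quotient.mk_eq_zero _).trans ⟨fun h => ⟨Submodule.Quotient.mk ⟨x, h⟩, rfl⟩, ?_⟩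
      rintro ⟨w, hw⟩
      obtain ⟨y, rfl⟩ := Submodule.mkQ_surjective V w
      have : x - (y : N) ∈ W := (Submodule.Quotient.eq W).1 hw.symm
      simpa using add_mem (hle this) (show (y : N) ∈ W'.restrictScalars A from y.2)
    · intro z
      obtain ⟨x, rfl⟩ := Submodule.mkQ_surjective _ z
      exact ⟨W.mkQ x, rfl⟩

/-- Generic flatness of the cokernel of a map from a finite module over a finite type algebra. -/
theorem exists_flatAway {A B : Type u} [CommRing A] [CommRing B] [Algebra R A] [Algebra A B] [Algebra R B]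
    [IsScalarTower R A B] [Algebra.FiniteType R A] [Algebra.FiniteType A B]
    (N : Type u) [AddCommGroup N] [Module B N] [Module A N] [Module R N] [IsScalarTower A B N]
    [IsScalarTower R A N] [IsScalarTower R B N] [Module.Finite B N] (W : Submodule A N) (hW : W.FG) :
    ∃ f : R, f ≠ 0 ∧ FlatAway f (N ⧸ W) := by
  obtain ⟨n, s, hs⟩ : ∃ (n : ℕ) (s : Fin n → B), Algebra.adjoin A (Set.range s) = ⊤ := by
    obtain ⟨t, ht⟩ := ‹Algebra.FiniteType A B›.out
    exact ⟨t.card, fun i => (t.equivFin.symm i : B), by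
      rw [← ht]; congr 1; ext x; exact ⟨fun ⟨i, hi⟩ => hi ▸ (t.equivFin.symm i).2, fun hx => ⟨t.equivFin ⟨x, hx⟩, by simp⟩⟩⟩
  exact finset_generators n A B s hs N W hW

end GenFlatCokerLib
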